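import Mathlib
import Groth.Prelude.Def_W4c5qcohlocdualityLoc
import Groth.Agent.GabLoc.Envelope

/-!
# Transfinite filtrations of objects of a localizing closure
-/

set_option autoImplicit false

universe w v u

open CategoryTheory CategoryTheory.Limits ZeroObject

namespace Groth.Agent.GabFilt28

variable {C : Type u} [Category.{v} C] [Abelian C]

theorem prop_of_colimit {Q : ObjectProperty C} (hQ : _root_.GabLoc.IsLocalizing.{w} Q) [HasCoproducts.{w} C]
    {I : Type w} [Category I] {F : I ⥤ C} {c : Cocone F} (hc : IsColimit c) (h : ∀ i, Q (F.obj i)) : Q c.pt := by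
  haveI := hQ.isSerreClass
  haveI := hQ.isClosedUnderCoproducts I
  have h1 : Q (∐ F.obj) :=
    Q.prop_of_isColimit (coproductIsCoproduct F.obj) (fun j => h j.as)
  haveI : Epi (Sigma.desc (fun i => c.ι.app i) : ∐ F.obj ⟶ c.pt) :=
    ⟨fun g g' hg => hc.hom_ext fun i => by
      have := congrArg (Sigma.ι F.obj i ≫ ·) hg
      simpa using this⟩
  exact Q.prop_of_epi (Sigma.desc (fun i => c.ι.app i) : ∐ F.obj ⟶ c.pt) h1

section

variable [HasCoproducts.{w} C] (P : ObjectProperty C)

theorem le_subquotCoprod : P ≤ _root_.GabLoc.subquotCoprod.{w} P := fun Z hZ => by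
  refine ⟨PUnit.{w + 1}, fun _ => Z, fun _ => hZ, Z, Sigma.ι (fun _ : PUnit.{w + 1} => Z) PUnit.unit, 𝟙 Z, ?_, inferInstance⟩
  exact mono_of_mono_fac (Sigma.ι_desc (fun _ => 𝟙 Z) PUnit.unit)

instance : (_root_.GabLoc.subquotCoprod.{w} P).IsClosedUnderSubobjects := ⟨fun {A' A} m _ h => by
  obtain ⟨J, X, hX, B, i, p, hi, hp⟩ := h
  haveI := hi; haveI := hp
  exact ⟨J, X, hX, pullback p m, pullback.fst p m ≫ i, pullback.snd p m, inferInstance, inferInstance⟩⟩

instance : (_root_.GabLoc.subquotCoprod.{w} P).IsClosedUnderQuotients := ⟨fun {A A'} q _ h => by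
  obtain ⟨J, X, hX, B, i, p, hi, hp⟩ := h
  haveI := hp
  exact ⟨J, X, hX, B, i, p ≫ q, hi, epi_comp p q⟩⟩

theorem subquotCoprod_of_isZero {A : C} (hA : IsZero A) : _root_.GabLoc.subquotCoprod.{w} P A :=
  ⟨PEmpty.{w + 1}, fun e => e.elim, fun e => e.elim, 0, 0, 0,
    ⟨fun g g' _ => (isZero_zero C).eq_of_tgt g g'⟩, ⟨fun g g' _ => hA.eq_of_src g g'⟩⟩

theorem subquotCoprod_le {Q : ObjectProperty C} (hQ : _root_.GabLoc.IsLocalizing.{w} Q) (hP : P ≤ Q) :
    _root_.GabLoc.subquotCoprod.{w} P ≤ Q := fun A hA => by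
  obtain ⟨J, X, hX, B, i, p, hi, hp⟩ := hA
  haveI := hQ.isSerreClass
  haveI := hQ.isClosedUnderCoproducts J
  have h1 : Q (∐ X) := Q.prop_of_isColimit (coproductIsCoproduct X) (fun j => hP _ (hX j.as))
  exact Q.prop_of_epi p (Q.prop_of_mono i h1)

instance : (_root_.GabLoc.monoModSubquot.{w} P).RespectsIso :=
  MorphismProperty.RespectsIso.of_respects_arrow_iso _ fun f g e hf => by
    haveI := hf.1
    refine ⟨?_, ?_⟩
    · have : g.hom = (inv e.hom.left) ≫ f.hom ≫ e.hom.right := by
        rw [IsIso.eq_inv_comp]; exact e.hom.w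
      rw [this]; infer_instance
    · let ei : cokernel f.hom ≅ cokernel g.hom :=
        cokernel.mapIso f.hom g.hom (Arrow.leftFunc.mapIso e) (Arrow.rightFunc.mapIso e) e.hom.w.symm
      exact (_root_.GabLoc.subquotCoprod.{w} P).prop_of_epi ei.hom hf.2

theorem isomorphisms_le : MorphismProperty.isomorphisms C ≤ _root_.GabLoc.monoModSubquot.{w} P := fun A B f hf => by
  haveI : IsIso f := hf
  exact ⟨inferInstance, subquotCoprod_of_isZero P (isZero_cokernel_of_epi f)⟩

theorem prop_of_transfiniteComposition {Q : ObjectProperty C} (hQ : _root_.GabLoc.IsLocalizing.{w} Q) (hP : P ≤ Q)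
    {J : Type w} [LinearOrder J] [SuccOrder J] [OrderBot J] [WellFoundedLT J] {X : C}
    (h : (_root_.GabLoc.monoModSubquot.{w} P).TransfiniteCompositionOfShape J (0 : (0 : C) ⟶ X)) : Q X := by
  haveI := hQ.isSerreClass
  refine prop_of_colimit hQ h.isColimit fun j => ?_
  induction j using SuccOrder.limitRecOn with
  | isMin j hj =>
    rw [isMin_iff_eq_bot.mp hj]
    obtain ⟨Z, hZ, hQZ⟩ := Q.exists_prop_of_containsZero
    exact Q.prop_of_iso ((hZ.iso (isZero_zero C)).trans h.isoBot.symm) hQZ
  | succ j hj hrec =>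
    obtain ⟨hm, hc⟩ := h.map_mem j hj
    haveI := hm
    exact Q.prop_X₂_of_exact (S := ShortComplex.mk _ _ (cokernel.condition (h.F.map (homOfLE (Order.le_succ j)))))
      (ShortComplex.exact_of_g_is_cokernel _ (cokernelIsCokernel _)) hrec (subquotCoprod_le P hQ hP _ hc)
  | isSuccLimit j hj hrec =>
    exact prop_of_colimit hQ (h.F.isColimitOfIsWellOrderContinuous j hj) fun i => hrec i.1 i.2

end

variable [IsGrothendieckAbelian.{w} C] (P : ObjectProperty C)

theorem exists_subobject_step {X : C} (hX : _root_.GabLoc.locClosure.{w} P X) {A : C} (a : A ⟶ X) [Mono a]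
    (ha : ¬ IsIso a) :
    ∃ (B : C) (i : A ⟶ B) (b : B ⟶ X) (_ : _root_.GabLoc.monoModSubquot.{w} P i) (_ : ¬ IsIso i) (_ : Mono b),
      i ≫ b = a := by
  classical
  have hex : ∃ (T : C) (f : T ⟶ cokernel a), _root_.GabLoc.subquotCoprod.{w} P T ∧ f ≠ 0 := by
    by_contra hno
    push Not at hno
    obtain ⟨E, _, m, _, hm⟩ := GabLoc.exists_envelope.{w} (cokernel a)
    have hloc := GabLoc.isLocalizing_hom_eq_zero.{w} E E
    have hQ : ∀ f : cokernel a ⟶ E, f = 0 := by
      intro f
      have := hX _ hloc fun Z hZ => by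
        refine ⟨fun g => ?_, fun g => ?_⟩ <;>
        exact GabLoc.hom_env_eq_zero (_root_.GabLoc.subquotCoprod.{w} P) m hm
          (fun T hT g => hno T g hT) (le_subquotCoprod P _ hZ) g
      exact zero_of_epi_comp (cokernel.π a) (this.1 _)
    have hz : IsZero (cokernel a) := IsZero.of_mono_eq_zero m (hQ m)
    haveI : Epi a := Abelian.epi_of_cokernel_π_eq_zero a (hz.eq_of_tgt _ _)
    exact ha (isIso_of_mono_of_epi a)
  obtain ⟨T, f, hT, hf⟩ := hex
  let p := pullback.snd (cokernel.π a) (image.ι f)
  let i : A ⟶ pullback (cokernel.π a) (image.ι f) := pullback.lift a 0 (by simp)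
  haveI : Mono i := mono_of_mono_fac (pullback.lift_fst a 0 _)
  have hse : (ShortComplex.mk i p (pullback.lift_snd a 0 _)).ShortExact := by
    refine ShortComplex.ShortExact.mk' ?_ inferInstance inferInstance
    refine ShortComplex.exact_of_f_is_kernel _ ?_
    refine KernelFork.IsLimit.ofι' i (pullback.lift_snd a 0 _) fun {K} k hk => ?_
    have h0 : (k ≫ pullback.fst (cokernel.π a) (image.ι f)) ≫ cokernel.π a = 0 := by
      rw [Category.assoc, pullback.condition, ← Category.assoc]
      show (k ≫ p) ≫ image.ι f = 0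
      rw [hk, zero_comp]
    refine ⟨Abelian.monoLift a _ h0, ?_⟩
    apply pullback.hom_ext
    · rw [Category.assoc, pullback.lift_fst]; exact Abelian.monoLift_comp _ _ _
    · rw [Category.assoc, pullback.lift_snd, comp_zero]; exact hk.symm
  refine ⟨_, i, pullback.fst _ _, ⟨inferInstance, ?_⟩, ?_, inferInstance, pullback.lift_fst a 0 _⟩
  · exact (_root_.GabLoc.subquotCoprod.{w} P).prop_of_epi
      (hse.gIsCokernel.coconePointUniqueUpToIso (cokernelIsCokernel i)).hom
      ((_root_.GabLoc.subquotCoprod.{w} P).prop_of_epi (factorThruImage f) hT)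
  · intro hi
    haveI : Epi p := hse.epi_g
    have hp0 : p = 0 := zero_of_epi_comp i (pullback.lift_snd a 0 _)
    apply hf
    have hz : 𝟙 (image f) = 0 := zero_of_epi_comp p (by simp [hp0])
    rw [← image.fac f, ← Category.comp_id (factorThruImage f), hz, comp_zero, zero_comp]

variable {P} {X : C} (hX : _root_.GabLoc.locClosure.{w} P X)

include hX

theorem exists_larger_subobject (A : Subobject X) (hA : A ≠ ⊤) :
    ∃ (A' : Subobject X) (h : A < A'), _root_.GabLoc.monoModSubquot.{w} P (Subobject.ofLE A A' h.le) := by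
  induction A using Subobject.ind with | _ f
  obtain ⟨X', i, p', hi, hi', hp', fac⟩ := exists_subobject_step P hX f
    (by simpa only [Subobject.isIso_iff_mk_eq_top] using hA)
  refine ⟨Subobject.mk p', Subobject.mk_lt_mk_of_comm i fac hi',
    (MorphismProperty.arrow_mk_iso_iff _ ?_).2 hi⟩
  refine Arrow.isoMk (Subobject.underlyingIso f) (Subobject.underlyingIso p') ?_
  dsimp
  simp only [← cancel_mono p', Category.assoc, fac,
    Subobject.underlyingIso_hom_comp_eq_mk, Subobject.ofLE_arrow]

open scoped Classical in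
/-- The next step of the filtration. -/
noncomputable def larger (A : Subobject X) : Subobject X :=
  if hA : A = ⊤ then ⊤ else (exists_larger_subobject hX A hA).choose

theorem larger_top : larger hX (⊤ : Subobject X) = ⊤ := dif_pos rfl

theorem lt_larger (A : Subobject X) (hA : A ≠ ⊤) : A < larger hX A := by
  dsimp only [larger]
  rw [dif_neg hA]
  exact (exists_larger_subobject hX A hA).choose_spec.choose

theorem le_larger (A : Subobject X) : A ≤ larger hX A := by
  by_cases hA : A = ⊤
  · subst hA; simp only [larger_top, le_refl]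
  · exact (lt_larger hX A hA).le

theorem monoModSubquot_le_larger (A : Subobject X) :
    _root_.GabLoc.monoModSubquot.{w} P (Subobject.ofLE _ _ (le_larger hX A)) := by
  by_cases hA : A = ⊤
  · subst hA
    have h : (⊤ : Subobject X) = larger hX ⊤ := (larger_top hX).symm
    haveI : IsIso (Subobject.ofLE _ _ (le_larger hX (⊤ : Subobject X))) :=
      ⟨Subobject.ofLE _ _ h.ge, by simp, by simp⟩
    exact isomorphisms_le P _ (MorphismProperty.isomorphisms.infer_property _)
  · refine (MorphismProperty.arrow_mk_iso_iff _ ?_).1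
      (exists_larger_subobject hX A hA).choose_spec.choose_spec
    exact Arrow.isoMk (Iso.refl _)
      (Subobject.isoOfEq _ _ ((by simp [larger, dif_neg hA])))

theorem exists_ordinal (A₀ : Subobject X) :
    ∃ (o : Ordinal.{w}) (j : o.ToType), transfiniteIterate (larger hX) j A₀ = ⊤ := by
  let κ := Order.succ (Cardinal.mk (Shrink.{w} (Subobject X)))
  have : Nonempty κ.ord.ToType := by simp [κ]
  have := WellFoundedLT.toOrderBot κ.ord.ToType
  have hJ : HasCardinalLT (Subobject X) (Cardinal.mk κ.ord.ToType) :=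
    lt_of_lt_of_le (Order.lt_succ _) (by simp [κ])
  exact ⟨κ.ord, top_mem_range_transfiniteIterate (larger hX) A₀ (lt_larger hX) (larger_top hX)
    (fun h ↦ by simpa [hasCardinalLT_iff_cardinal_mk_lt] using hJ.of_injective _ h)⟩

section

variable (A₀ : Subobject X) (J : Type w) [LinearOrder J] [OrderBot J] [SuccOrder J] [WellFoundedLT J]

/-- The filtration as a functor. -/
@[simps]
noncomputable def functorToMonoOver : J ⥤ MonoOver X where
  obj j := MonoOver.mk (transfiniteIterate (larger hX) j A₀).arrow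
  map {j j'} f := MonoOver.homMk (Subobject.ofLE _ _
      (monotone_transfiniteIterate _ _ (le_larger hX) (leOfHom f)))

/-- The filtration as a functor to `C`. -/
noncomputable abbrev functor : J ⥤ C :=
  functorToMonoOver hX A₀ J ⋙ MonoOver.forget _ ⋙ Over.forget _

set_option backward.defeqAttrib.useBackward true in
instance : (functor hX A₀ J).IsWellOrderContinuous where
  nonempty_isColimit m hm := ⟨by
    have := hm.nonempty_Iio.to_subtype
    let c := (Set.principalSegIio m).cocone (functorToMonoOver hX A₀ J ⋙ MonoOver.forget _)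
    have : Mono c.pt.hom := by dsimp [c]; infer_instance
    apply IsGrothendieckAbelian.isColimitMapCoconeOfSubobjectMkEqISup
      ((Set.principalSegIio m).monotone.functor ⋙ functorToMonoOver hX A₀ J) c
    dsimp [c]
    simp only [Subobject.mk_arrow]
    exact transfiniteIterate_limit (larger hX) A₀ m hm⟩

set_option backward.isDefEq.respectTransparency.types false in
set_option backward.defeqAttrib.useBackward true in
variable {J} in
/-- Initial pieces of the filtration are transfinite compositions. -/
noncomputable def tcMapFromBot (j : J) :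
    (_root_.GabLoc.monoModSubquot.{w} P).TransfiniteCompositionOfShape (Set.Iic j)
    ((functor hX A₀ J).map (homOfLE bot_le : ⊥ ⟶ j)) where
  F := (Set.initialSegIic j).monotone.functor ⋙ functor hX A₀ J
  isoBot := Iso.refl _
  incl :=
    { app k := (functor hX A₀ J).map (homOfLE k.2)
      naturality k k' h := by simp [MonoOver.forget] }
  isColimit := colimitOfDiagramTerminal isTerminalTop _
  map_mem k hk := by
    dsimp [MonoOver.forget]
    convert!
      monoModSubquot_le_larger hX (transfiniteIterate (larger hX) k.1 A₀) using 2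
    all_goals
      rw [Set.Iic.succ_eq_of_not_isMax hk,
        transfiniteIterate_succ _ _ _ (Set.not_isMax_coe _ hk)]

end

set_option backward.defeqAttrib.useBackward true in
set_option backward.isDefEq.respectTransparency false in
theorem transfiniteCompositions_zero :
    MorphismProperty.transfiniteCompositions.{w} (_root_.GabLoc.monoModSubquot.{w} P) (0 : (0 : C) ⟶ X) := by
  haveI : Mono (0 : (0 : C) ⟶ X) := ⟨fun g g' _ => (isZero_zero C).eq_of_tgt g g'⟩
  obtain ⟨o, j, hj⟩ := exists_ordinal hX (Subobject.mk (0 : (0 : C) ⟶ X))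
  have : Nonempty o.ToType := ⟨j⟩
  let _ : OrderBot o.ToType := WellFoundedLT.toOrderBot _
  rw [MorphismProperty.transfiniteCompositions_iff]
  refine ⟨Set.Iic j, inferInstance, inferInstance, inferInstance, inferInstance, ⟨?_⟩⟩
  let t := transfiniteIterate (larger hX) j (Subobject.mk (0 : (0 : C) ⟶ X))
  have := (Subobject.isIso_arrow_iff_eq_top t).2 hj
  apply (tcMapFromBot hX (Subobject.mk (0 : (0 : C) ⟶ X)) j).ofArrowIso
  refine Arrow.isoMk ((Subobject.isoOfEq _ _ (transfiniteIterate_bot _ _)) ≪≫
    Subobject.underlyingIso (0 : (0 : C) ⟶ X)) (asIso t.arrow) ?_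
  dsimp [MonoOver.forget]
  rw [Category.assoc, Subobject.underlyingIso_hom_comp_eq_mk, Subobject.ofLE_arrow,
    Subobject.ofLE_arrow]

end Groth.Agent.GabFilt28
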